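import Cfsg.Agent.Char.Kernel

/-!
# The idempotent of an irreducible character of a subgroup
-/

set_option autoImplicit false

open scoped ComplexConjugate
open Cfsg Finset

namespace CF.Hc.H0
open CF.Char

variable {G : Type*} [Group G] {A : Type*} [Ring A] [Algebra ℂ A]

/-- The idempotent attached to `Ψ`. -/
noncomputable def ee (H : Subgroup G) [Fintype H] (Ψ : H → ℂ) (φ : G →* A) : A :=
  ∑ p : H, (Ψ 1 / Nat.card H * conj (Ψ p)) • φ p

variable {H : Subgroup G} [Fintype H] {Ψ : H → ℂ} (φ : G →* A)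

theorem mul_ee (g : G) :
    φ g * ee H Ψ φ = ∑ p : H, (Ψ 1 / Nat.card H * conj (Ψ p)) • φ (g * p) := by
  simp only [ee, Finset.mul_sum, mul_smul_comm, map_mul]

theorem ee_comm (hΨ : IsClassFunction H Ψ) {x : G} (hx : x ∈ H) :
    φ x * ee H Ψ φ = ee H Ψ φ * φ x := by
  rw [mul_ee, ee, Finset.sum_mul]
  refine Fintype.sum_equiv (MulAut.conj (⟨x, hx⟩ : H)).toEquiv _ _ fun p => ?_
  have e1 : Ψ ((MulAut.conj (⟨x, hx⟩ : H)).toEquiv p) = Ψ p := hΨ p ⟨x, hx⟩
  rw [e1, smul_mul_assoc, ← map_mul]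
  congr 2
  change x * p = x * p * x⁻¹ * x
  group

theorem ker_ee (hΨ : IsCharacter H Ψ) {z : H} (hz : Ψ z = Ψ 1) : φ z * ee H Ψ φ = ee H Ψ φ := by
  rw [mul_ee, ee]
  refine Fintype.sum_equiv (Equiv.mulLeft z) _ _ fun p => ?_
  rw [Equiv.coe_mulLeft, char_mul_of_eq_one hΨ hz, Subgroup.coe_mul]

theorem conj_one {K : Type*} [Group K] {χ : K → ℂ} (h : IsCharacter K χ) : conj (χ 1) = χ 1 := by
  obtain ⟨n, hn⟩ := char_one_eq_nat h
  rw [hn, map_natCast]

theorem ee_sq (hΨ : IsIrrCharacter H Ψ) : ee H Ψ φ * ee H Ψ φ = ee H Ψ φ := by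
  have h0 : (Nat.card H : ℂ) ≠ 0 := card_ne_zero_complex
  have h1 := irr_one_ne_zero hΨ
  have e1 : ∀ p : H, φ p * ee H Ψ φ =
      ∑ q : H, (Ψ 1 / Nat.card H * conj (Ψ (p⁻¹ * q))) • φ q := fun p => by
    rw [mul_ee]
    refine Fintype.sum_equiv (Equiv.mulLeft p) _ _ fun q => ?_
    rw [Equiv.coe_mulLeft, inv_mul_cancel_left, Subgroup.coe_mul]
  conv_lhs => lhs; rw [ee]
  rw [Finset.sum_mul]
  simp only [smul_mul_assoc, e1, Finset.smul_sum, smul_smul]
  rw [Finset.sum_comm, ee]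
  refine Finset.sum_congr rfl fun q _ => ?_
  rw [← Finset.sum_smul]
  congr 1
  have e2 := congrArg conj (sum_irr_mul_irr_inv hΨ hΨ q)
  rw [if_pos rfl, map_sum, map_div₀, map_mul, map_natCast, conj_one (irr_isCharacter hΨ)] at e2
  simp only [map_mul] at e2
  calc _ = (Ψ 1 / Nat.card H) ^ 2 * ∑ p : H, conj (Ψ p) * conj (Ψ (p⁻¹ * q)) := by
        rw [Finset.mul_sum]; exact Finset.sum_congr rfl fun p _ => by ring
    _ = _ := by rw [e2]; field_simp

theorem map_ee {B : Type*} [Ring B] [Algebra ℂ B] (π : A →ₐ[ℂ] B) (φ' : G →* B)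
    (h : ∀ g, π (φ g) = φ' g) : π (ee H Ψ φ) = ee H Ψ φ' := by
  simp only [ee, map_sum, map_smul, h]

/-- A linear functional on `g e`. -/
theorem tau_ee (hΨ : IsIrrCharacter H Ψ) (τ : A →ₗ[ℂ] ℂ) {χ : G → ℂ} (hχ : IsClassFunction G χ)
    (h : ∀ g, τ (φ g) = χ g) (x : H) :
    τ (φ x * ee H Ψ φ) = classInner (fun y : H => χ y) Ψ * Ψ x := by
  have h0 : (Nat.card H : ℂ) ≠ 0 := card_ne_zero_complex
  have h1 := irr_one_ne_zero hΨ
  have e := sum_classFun_mul_irr_inv (classFun_restrict hχ H) hΨ x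
  rw [← Fintype.sum_equiv (Equiv.mulLeft x) (fun p : H => χ (x * p) * conj (Ψ p)) _ (fun p => by
    rw [Equiv.coe_mulLeft, mul_inv_rev, inv_mul_cancel_right, irr_inv hΨ, Subgroup.coe_mul])] at e
  rw [mul_ee, map_sum]
  simp only [map_smul, h, smul_eq_mul]
  calc _ = Ψ 1 / Nat.card H * ∑ p : H, χ (x * p) * conj (Ψ p) := by
        rw [Finset.mul_sum]; exact Finset.sum_congr rfl fun p _ => by ring
    _ = _ := by rw [e]; field_simp

/-- The regular trace on `g e`. -/
theorem reg_ee [Fintype G] (hΨ : IsCharacter H Ψ) (τ : A →ₗ[ℂ] ℂ)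
    (h : ∀ g, τ (φ g) = regChar G g) (g : G) :
    τ (φ g * ee H Ψ φ) = H.index * Ψ 1 * extendByZero H Ψ g := by
  rw [mul_ee, map_sum]
  simp only [map_smul, h, smul_eq_mul]
  by_cases hg : g ∈ H
  · rw [Finset.sum_eq_single (⟨g, hg⟩ : H)⁻¹, extendByZero_of_mem H Ψ hg, char_inv hΨ,
      Complex.conj_conj, Subgroup.coe_inv, mul_inv_cancel, regChar_one, index_eq_div_complex]
    · ring
    · intro p _ hp
      rw [regChar_of_ne, mul_zero]
      intro e
      exact hp (Subtype.ext (eq_inv_of_mul_eq_one_right e))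
    · intro h; exact absurd (mem_univ _) h
  · rw [extendByZero_of_not_mem H Ψ hg, mul_zero]
    refine Finset.sum_eq_zero fun p _ => ?_
    rw [regChar_of_ne, mul_zero]
    intro e
    exact hg (by rw [eq_inv_of_mul_eq_one_left e]; exact H.inv_mem p.2)

/-- Schur's lemma on the image of an idempotent. -/
theorem scal {K V : Type*} [Group K] [Finite K] [AddCommGroup V] [Module ℂ V]
    [FiniteDimensional ℂ V] (σ : Representation ℂ K V) {ψ : K → ℂ} (hψ : IsIrrCharacter K ψ)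
    {E T : Module.End ℂ V} (hE : E * E = E) (hc : ∀ h, σ h * E = E * σ h)
    (htr : ∀ h, LinearMap.trace ℂ V (σ h * E) = ψ h) (hT : ∀ h, σ h * T = T * σ h)
    (h1 : E * T = T) (h2 : T * E = T) : ∃ a : ℂ, T = a • E := by
  have hid : ∀ w ∈ LinearMap.range E, E w = w := by
    rintro _ ⟨v, rfl⟩
    exact LinearMap.congr_fun hE v
  have inv : ∀ h, LinearMap.range E ≤ (LinearMap.range E).comap (σ h) := by
    rintro h _ ⟨v, rfl⟩
    exact ⟨σ h v, (LinearMap.congr_fun (hc h) v).symm⟩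
  have hch : (σ.subrepresentation _ inv).character = ψ := by
    ext h
    have hm : ∀ v, (σ h * E) v ∈ LinearMap.range E := fun v => inv h ⟨v, rfl⟩
    rw [← htr, ← LinearMap.trace_restrict_eq_of_forall_mem _ _ hm]
    unfold Representation.character
    congr 1
    ext w
    change σ h w = σ h (E w)
    rw [hid _ w.2]
  haveI := isIrreducible_of_irr (σ.subrepresentation _ inv) (hch ▸ hψ)
  have hm : ∀ v ∈ LinearMap.range E, T v ∈ LinearMap.range E := fun v _ =>
    ⟨T v, LinearMap.congr_fun h1 v⟩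
  obtain ⟨a, ha⟩ := schur (σ.subrepresentation _ inv) (T.restrict hm) fun h => by
    ext w
    exact (LinearMap.congr_fun (hT h) w).symm
  refine ⟨a, LinearMap.ext fun v => ?_⟩
  have := congrArg Subtype.val (LinearMap.congr_fun ha ⟨E v, v, rfl⟩)
  exact (LinearMap.congr_fun h2 v).symm.trans this

/-- The linear extension of a function to the group algebra. -/
noncomputable def lin (χ : G → ℂ) : MonoidAlgebra ℂ G →ₗ[ℂ] ℂ :=
  (Finsupp.linearCombination ℂ χ).comp (MonoidAlgebra.coeffLinearEquiv ℂ).toLinearMap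

theorem lin_of (χ : G → ℂ) (g : G) : lin χ (MonoidAlgebra.of ℂ G g) = χ g := by
  simp [lin]

theorem lin_rep {V : Type*} [AddCommGroup V] [Module ℂ V] (ρ : Representation ℂ G V)
    (x : MonoidAlgebra ℂ G) : lin ρ.character x = LinearMap.trace ℂ V (ρ.asAlgebraHom x) := by
  induction x using MonoidAlgebra.induction_on with
  | of g => rw [lin_of, Representation.asAlgebraHom_of]; rfl
  | add x y hx hy => simp only [map_add, hx, hy]
  | smul r x hx => simp only [map_smul, hx]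

theorem lin_add3 (c d : ℂ) (χ ψ θ : G → ℂ) (x : MonoidAlgebra ℂ G) :
    lin (c • χ + d • ψ + θ) x = c * lin χ x + d * lin ψ x + lin θ x := by
  induction x using MonoidAlgebra.induction_on with
  | of g => simp only [lin_of, Pi.add_apply, Pi.smul_apply, smul_eq_mul]
  | add x y hx hy => simp only [map_add, hx, hy]; ring
  | smul r x hx => simp only [map_smul, hx, smul_eq_mul]; ring

theorem lin_comm {χ : G → ℂ} (h : IsCharacter G χ) (x y : MonoidAlgebra ℂ G) :
    lin χ (x * y) = lin χ (y * x) := by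
  obtain ⟨n, ρ, rfl⟩ := h
  rw [lin_rep, lin_rep, map_mul ρ.asAlgebraHom, map_mul ρ.asAlgebraHom, LinearMap.trace_mul_comm]

theorem lin_zero (hΨ : IsIrrCharacter H Ψ) {θ : G → ℂ} (h : IsCharacter G θ)
    (h0 : classInner (fun y : H => θ y) Ψ = 0) (x : MonoidAlgebra ℂ G) :
    lin θ (ee H Ψ (MonoidAlgebra.of ℂ G) * x) = 0 := by
  obtain ⟨n, ρ, rfl⟩ := h
  have e := tau_ee (φ := ρ) hΨ (LinearMap.trace ℂ _) (char_isClassFunction ⟨n, ρ, rfl⟩)
    (fun _ => rfl) 1
  rw [h0, zero_mul, OneMemClass.coe_one, map_one, one_mul] at e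
  have e2 : ee H Ψ ρ = 0 := LinearMap.IsIdempotentElem.eq_zero_of_trace_eq_zero (ee_sq ρ hΨ) e
  rw [lin_rep, map_mul, map_ee _ ρ.asAlgebraHom ρ ρ.asAlgebraHom_of, e2, zero_mul, map_zero]

theorem lin_one (hΨ : IsIrrCharacter H Ψ) {χ : G → ℂ} (h : IsCharacter G χ)
    (h0 : classInner (fun y : H => χ y) Ψ = 1) {t : MonoidAlgebra ℂ G}
    (hT : ∀ p : H, MonoidAlgebra.of ℂ G p * t = t * MonoidAlgebra.of ℂ G p)
    (h1 : ee H Ψ (MonoidAlgebra.of ℂ G) * t = t) (h2 : t * ee H Ψ (MonoidAlgebra.of ℂ G) = t) :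
    ∃ a : ℂ, lin χ t = a * Ψ 1 ∧ lin χ (t * t) = a ^ 2 * Ψ 1 ∧
      lin χ (t * t * t) = a ^ 3 * Ψ 1 := by
  obtain ⟨n, ρ, rfl⟩ := h
  have e : ∀ x : H, LinearMap.trace ℂ _ (ρ x * ee H Ψ ρ) = Ψ x := fun x => by
    rw [tau_ee (φ := ρ) hΨ (LinearMap.trace ℂ _) (char_isClassFunction ⟨n, ρ, rfl⟩)
      (fun _ => rfl) x, h0, one_mul]
  have em := map_ee (H := H) (Ψ := Ψ) _ ρ.asAlgebraHom ρ ρ.asAlgebraHom_of
  have hE := ee_sq ρ hΨ
  obtain ⟨a, ha⟩ := scal (ρ.comp H.subtype) hΨ (T := ρ.asAlgebraHom t) hE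
    (fun p => ee_comm ρ (irr_isClassFunction hΨ) p.2) e
    (fun p => by
      have := congrArg ρ.asAlgebraHom (hT p)
      rwa [map_mul, map_mul, ρ.asAlgebraHom_of] at this)
    (by rw [← em, ← map_mul, h1]) (by rw [← em, ← map_mul, h2])
  have e1 := e 1
  rw [OneMemClass.coe_one, map_one, one_mul] at e1
  refine ⟨a, ?_, ?_, ?_⟩
  · rw [lin_rep, ha, map_smul, e1, smul_eq_mul]
  · rw [lin_rep, map_mul, ha, smul_mul_smul_comm, hE, map_smul, e1, smul_eq_mul, pow_two]
  · rw [lin_rep, map_mul ρ.asAlgebraHom, map_mul ρ.asAlgebraHom, ha, smul_mul_smul_comm, hE,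
      smul_mul_smul_comm, hE, map_smul, e1, smul_eq_mul]
    ring

/-- A character of norm two. -/
theorem norm_two [Fintype G] {π : G → ℂ} (hπ : IsCharacter G π) (h2 : classInner π π = 2) :
    ∃ χ ψ, IsIrrCharacter G χ ∧ IsIrrCharacter G ψ ∧ classInner χ ψ = 0 ∧ π = χ + ψ := by
  obtain ⟨χ, hχ, h0⟩ := exists_irr_inner_ne_zero (char_isClassFunction hπ) (by
    rintro rfl
    rw [Char.inner_zero_left] at h2
    norm_num at h2)
  have hc := char_sub_of_inner_ne_zero hπ hχ h0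
  obtain ⟨m, hm⟩ := inner_char_eq_nat hπ (irr_isCharacter hχ)
  obtain ⟨k, hk⟩ := inner_char_eq_nat hc hc
  have hm' : classInner χ π = m := by rw [inner_char_comm (irr_isCharacter hχ) hπ, hm]
  have e := hk
  rw [Char.inner_sub_left, Char.inner_sub_right, Char.inner_sub_right, h2, hm, hm',
    inner_irr_self hχ] at e
  have e2 : k + 2 * m = 3 := by
    have : ((k + 2 * m : ℕ) : ℂ) = (3 : ℕ) := by push_cast; linear_combination -e
    exact_mod_cast this
  have hm0 : m ≠ 0 := by rintro rfl; exact h0 (by simpa using hm)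
  obtain rfl : m = 1 := by omega
  obtain rfl : k = 1 := by omega
  refine ⟨χ, π - χ, hχ, (irr_iff_inner_self hc).2 (by simpa using hk), ?_, by simp⟩
  rw [Char.inner_sub_right, hm', inner_irr_self hχ]
  simp

/-- Solving the moment equations. -/
theorem solve {c d x y D a b η : ℂ} (hD : D ≠ 0) (hb : b ≠ 0) (hη : η = 1 ∨ η = -1)
    (h0 : c + d = D) (h1 : c * x + d * y = 0) (h2 : a * b ^ 2 * (c * x ^ 2 + d * y ^ 2) = D)
    (h3 : (a * b ^ 2) ^ 2 * (c * x ^ 3 + d * y ^ 3) = D * (η * (a - 1) * b)) :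
    (a + 1) * c = a * D ∨ (a + 1) * d = a * D := by
  have hη2 : η * η = 1 := by rcases hη with rfl | rfl <;> norm_num
  have e1 : a * b ^ 2 * (x * y) = -1 := by
    apply mul_left_cancel₀ hD
    linear_combination (a * b ^ 2 * (x + y)) * h1 - h2 - a * b ^ 2 * (x * y) * h0
  have e2 : a * b * (x + y) = η * (a - 1) := by
    apply mul_left_cancel₀ (mul_ne_zero hD hb)
    linear_combination h3 - a * b ^ 2 * (x + y) * h2 + (a * b ^ 2) ^ 2 * (x * y) * h1
  have e3 : (b * x - η) * (a * b * x + η) = 0 := by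
    linear_combination b * x * e2 - e1 - hη2
  rcases mul_eq_zero.1 e3 with h | h
  · right
    have : d = a * c := by
      linear_combination (-η * a * b) * h1 + η * d * e2 + η * a * (c - d) * h + (a * c - d) * hη2
    linear_combination this + a * h0
  · left
    have : c = a * d := by
      linear_combination (-η * a * b) * h1 + η * d * e2 + η * (c - d) * h + (a * d - c) * hη2
    linear_combination this + a * h0

end CF.Hc.H0
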